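import Groth.Agent.Etbc.H206.KADvr
import Mathlib.RingTheory.Ideal.KrullsHeightTheorem
import Mathlib.RingTheory.KrullDimension.Basic
import Mathlib.RingTheory.LocalRing.ResidueField.Ideal
import Mathlib.RingTheory.Localization.FractionRing
import Mathlib.RingTheory.Spectrum.Prime.Topology

/-!
# A general lower bound for functions on fields by the dimension

Let `P L d` be a property of fields (think: `cd_ℓ(L) ≤ d`) such that for every discrete valuation
ring `V` with fraction field `L` and `ℓ ≠ 0` in the residue field `κ`, `P L d` implies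
`d = d' + 1` and `P κ d'` for some `d'`.  Then for every Noetherian domain `A` in which `ℓ` is
invertible and every finite extension `L` of its fraction field, `P L d` implies `dim A ≤ d`.
-/

set_option autoImplicit false

universe u

open IsLocalRing

namespace Groth.Agent.Etbc.H206.DimLower

/-- The discrete valuation ring step for a property `P L d` of fields. -/
def DvrStep (ℓ : ℕ) (P : ∀ (L : Type u) [Field L], ℕ → Prop) : Prop :=
  ∀ (V : Type u) [CommRing V] [IsDomain V] [IsDiscreteValuationRing V] (L : Type u) [Field L]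
    [Algebra V L] [IsFractionRing V L] (d : ℕ), (ℓ : ResidueField V) ≠ 0 → P L d →
    ∃ d' : ℕ, d = d' + 1 ∧ P (ResidueField V) d'

/-- A chain of primes above a prime of height one gives a chain in the quotient. -/
theorem exists_height_one (A : Type u) [CommRing A] [IsDomain A] [IsNoetherianRing A] (n : ℕ)
    (hn : ((n + 1 : ℕ) : WithBot ℕ∞) ≤ ringKrullDim A) :
    ∃ p : Ideal A, ∃ _ : p.IsPrime, p ≠ ⊥ ∧ p.height ≤ 1 ∧
      (n : WithBot ℕ∞) ≤ ringKrullDim (A ⧸ p) := by
  obtain ⟨l, hl⟩ := Order.le_krullDim_iff.1 hn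
  have hl1 : l.length = n + 1 := by exact_mod_cast hl
  have h01 : l (⟨0, by omega⟩ : Fin (l.length + 1)) < l (⟨1, by omega⟩ : Fin (l.length + 1)) :=
    l.strictMono (by simp [Fin.lt_def])
  have hne : (l (⟨1, by omega⟩ : Fin (l.length + 1))).asIdeal ≠ ⊥ := by
    intro h
    have h2 : (l (⟨0, by omega⟩ : Fin (l.length + 1))).asIdeal <
      (l (⟨1, by omega⟩ : Fin (l.length + 1))).asIdeal := h01
    rw [h] at h2
    exact not_lt_bot h2
  obtain ⟨a, ha, ha0⟩ := Submodule.exists_mem_ne_zero_of_ne_bot hne
  obtain ⟨p, hp, hpl⟩ := Ideal.exists_minimalPrimes_le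
    ((Ideal.span_singleton_le_iff_mem _).2 ha)
  have hpp : p.IsPrime := hp.1.1
  refine ⟨p, hpp, ?_, Ideal.height_le_one_of_isPrincipal_of_mem_minimalPrimes _ p hp, ?_⟩
  · rintro rfl
    exact ha0 (Ideal.mem_bot.1 (hp.1.2 (Ideal.subset_span rfl)))
  · rw [ringKrullDim_quotient, Order.le_krullDim_iff]
    refine ⟨⟨n, fun i => ⟨l (⟨i.1 + 1, by omega⟩ : Fin (l.length + 1)), ?_⟩, ?_⟩, by simp⟩
    · rw [PrimeSpectrum.mem_zeroLocus]
      refine hpl.trans ?_
      exact l.monotone (by simp [Fin.le_def])
    · intro i
      exact l.strictMono (by simp [Fin.lt_def])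

/-- **Lower bound by the dimension.** -/
theorem le_of_le_ringKrullDim (ℓ : ℕ) (P : ∀ (L : Type u) [Field L], ℕ → Prop)
    (hP : DvrStep ℓ P) (n : ℕ) :
    ∀ (A : Type u) [CommRing A] [IsDomain A] [IsNoetherianRing A] (_ : IsUnit (ℓ : A))
      (K : Type u) [Field K] [Algebra A K] [IsFractionRing A K]
      (L : Type u) [Field L] [Algebra K L] [FiniteDimensional K L] (d : ℕ) (_ : P L d)
      (_ : (n : WithBot ℕ∞) ≤ ringKrullDim A), n ≤ d := by
  induction n with
  | zero => intros; exact Nat.zero_le _
  | succ n ih =>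
    intro A _ _ _ hA K _ _ _ L _ _ _ d hL hn
    obtain ⟨p, hp, hp0, hp1, hpn⟩ := exists_height_one A n hn
    let D := Localization.AtPrime p
    have hpu : ∀ y : p.primeCompl, IsUnit (algebraMap A K y) := fun y => by
      rw [isUnit_iff_ne_zero, Ne, map_eq_zero_iff _ (IsFractionRing.injective A K)]
      intro h
      exact y.2 (h ▸ p.zero_mem)
    let : Algebra D K := (IsLocalization.lift (M := p.primeCompl) (S := D) hpu).toAlgebra
    have : IsScalarTower A D K := .of_algebraMap_eq fun x =>
      (IsLocalization.lift_eq (M := p.primeCompl) (S := D) hpu x).symm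
    have : IsFractionRing D K :=
      IsFractionRing.isFractionRing_of_isDomain_of_isLocalization p.primeCompl D K
    have : IsDomain D := IsLocalization.isDomain_localization p.primeCompl_le_nonZeroDivisors
    have : IsNoetherianRing D := IsLocalization.isNoetherianRing p.primeCompl D inferInstance
    have : Ring.KrullDimLE 1 D := by
      rw [Ring.krullDimLE_iff, IsLocalization.AtPrime.ringKrullDim_eq_height p D]
      exact_mod_cast hp1
    have hDm : maximalIdeal D ≠ ⊥ := by
      obtain ⟨a, ha, ha0⟩ := Submodule.exists_mem_ne_zero_of_ne_bot hp0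
      intro h
      have h1 : algebraMap A D a ∈ maximalIdeal D :=
        (IsLocalization.AtPrime.to_map_mem_maximal_iff D p a).2 ha
      rw [h, Ideal.mem_bot, IsLocalization.to_map_eq_zero_iff D p.primeCompl_le_nonZeroDivisors]
        at h1
      exact ha0 h1
    let : Algebra D L := ((algebraMap K L).comp (algebraMap D K)).toAlgebra
    have : IsScalarTower D K L := .of_algebraMap_eq fun _ => rfl
    obtain ⟨V, _, _, _, _, _, _, _, hloc, hfin⟩ := KADvr.exists_dvr_finite D hDm K L
    have hV : (ℓ : ResidueField V) ≠ 0 := by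
      have h1 : IsUnit (((residue V).comp ((algebraMap D V).comp (algebraMap A D))) (ℓ : A)) :=
        hA.map _
      rw [map_natCast] at h1
      exact h1.ne_zero
    obtain ⟨d', rfl, hd'⟩ := hP V L d hV hL
    have hfin' : FiniteDimensional p.ResidueField (ResidueField V) :=
      Module.Finite.of_restrictScalars_finite D (ResidueField D) (ResidueField V)
    have hA' : IsUnit (ℓ : A ⧸ p) := by
      have h1 := hA.map (Ideal.Quotient.mk p)
      rwa [map_natCast] at h1
    have := ih (A ⧸ p) hA' p.ResidueField (ResidueField V) d' hd' hpn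
    omega

/-- Lower bound by the dimension, without the auxiliary finite extension. -/
theorem ringKrullDim_le (ℓ : ℕ) (P : ∀ (L : Type u) [Field L], ℕ → Prop)
    (hP : DvrStep ℓ P) (A : Type u) [CommRing A] [IsDomain A] [IsNoetherianRing A]
    (hA : IsUnit (ℓ : A)) (K : Type u) [Field K] [Algebra A K] [IsFractionRing A K] (d : ℕ)
    (hK : P K d) : ringKrullDim A ≤ d := by
  by_contra hcon
  rw [not_le] at hcon
  have h1 : ((d + 1 : ℕ) : WithBot ℕ∞) ≤ ringKrullDim A := by
    rw [← ENat.WithBot.add_one_le_iff] at hcon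
    exact_mod_cast hcon
  have := le_of_le_ringKrullDim ℓ P hP (d + 1) A hA K K d hK h1
  omega

end Groth.Agent.Etbc.H206.DimLower
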