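import Groth.Agent.Etbc.H227.Glue
import Groth.Agent.Etbc.H206.DimLower

/-!
# Glue for S3488

Reduction of `dim X ≤ cd_ℓ(R(X))` for a Noetherian scheme to the discrete valuation ring step.
-/

set_option autoImplicit false
universe u
open CategoryTheory CategoryTheory.Limits CategoryTheory.Abelian AlgebraicGeometry Opposite

namespace Groth.Agent.Etbc.H206.Glue

open Groth.Agent.Ega43.MaxPoints Groth.Agent.Etbc.H227 Groth.Agent.Etbc.H227.Glue

/-- The discrete valuation ring step for `cd_ℓ`: for a discrete valuation ring `V` with fraction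
field `L` and residue field of characteristic `≠ ℓ`, `cd_ℓ(L) ≤ d` implies `1 ≤ d` and
`cd_ℓ(κ(V)) ≤ d - 1`. -/
def CdDvrStep (ℓ : ℕ) : Prop :=
  DimLower.DvrStep.{u} ℓ fun L _ d => Dix.CohDimLEAt (Spec (CommRingCat.of L)) ℓ d

/-- The dimension of a scheme is bounded by the dimensions of its local rings. -/
theorem topologicalKrullDim_le (X : Scheme.{u}) (d : ℕ)
    (h : ∀ y : X, ringKrullDim (X.presheaf.stalk y) ≤ d) : topologicalKrullDim X ≤ d := by
  rw [Groth.Agent.CurvesB.DimPts.krullDim_eq, Order.krullDim_eq_iSup_coheight, iSup_le_iff]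
  intro y
  rw [← ringKrullDim_stalk_eq_coheight]
  exact h y

/-- The dimension of a ring is bounded by the dimensions of its quotients by minimal primes. -/
theorem ringKrullDim_le_of_minimalPrimes (A : Type u) [CommRing A] (d : ℕ)
    (h : ∀ P ∈ minimalPrimes A, ringKrullDim (A ⧸ P) ≤ d) : ringKrullDim A ≤ d := by
  refine iSup_le fun l => ?_
  obtain ⟨P, hP, hPl⟩ := Ideal.exists_minimalPrimes_le (bot_le : ⊥ ≤ l.head.asIdeal)
  refine le_trans ?_ (h P hP)
  rw [ringKrullDim_quotient, Order.le_krullDim_iff]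
  refine ⟨⟨l.length, fun i => ⟨l i, ?_⟩, ?_⟩, rfl⟩
  · rw [PrimeSpectrum.mem_zeroLocus]
    exact hPl.trans (l.head_le i)
  · intro i
    exact l.strictMono (Fin.castSucc_lt_succ)

/-- **S3488 from the discrete valuation ring step.** -/
theorem main (X : Scheme.{u}) [IsLocallyNoetherian X] (ℓ : ℕ) (hstep : CdDvrStep.{u} ℓ)
    (hℓX : Dix.InvertibleOn X ℓ) (d : ℕ)
    (hd : ∀ x : X, closure {x} ∈ irreducibleComponents (X : Type u) →
      Dix.CohDimLEAt (Spec (X.residueField x)) ℓ d) :
    topologicalKrullDim X ≤ d := by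
  refine topologicalKrullDim_le X d fun y => ringKrullDim_le_of_minimalPrimes _ d fun P hP => ?_
  have hPp : P.IsPrime := hP.1.1
  have hu : IsUnit (ℓ : X.presheaf.stalk y) := by
    have h1 : (ℓ : X.residueField y) ≠ 0 := hℓX y
    rw [← IsLocalRing.notMem_maximalIdeal, ← IsLocalRing.residue_eq_zero_iff, map_natCast]
    exact h1
  have hu' : IsUnit (ℓ : X.presheaf.stalk y ⧸ P) := by
    have h1 := hu.map (Ideal.Quotient.mk P)
    rwa [map_natCast] at h1
  refine DimLower.ringKrullDim_le ℓ _ hstep (X.presheaf.stalk y ⧸ P) hu'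
    (FractionRing (X.presheaf.stalk y ⧸ P)) d ?_
  obtain ⟨E⟩ := exists_ringEquiv X y ⟨P, hPp⟩
  exact CdIso.cohDimLEAt_of_ringEquiv E ℓ d
    (hd _ (isMaxPt_fromSpecStalk ⟨P, hPp⟩ hP).closure_mem_irreducibleComponents)

end Groth.Agent.Etbc.H206.Glue
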