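import Groth.Agent.Ega2.DVRDominate

/-!
# Discrete valuation rings with finite residue extension above a one-dimensional local domain

For a Noetherian local domain `D` of dimension one with fraction field `K` and a finite extension
`L/K` there is a discrete valuation ring of `L` dominating `D` whose residue field is finite over
the residue field of `D` (Krull–Akizuki).
-/

set_option autoImplicit false

universe u

open IsLocalRing

namespace Groth.Agent.Etbc.H206.KADvr

open Groth.Agent.Ega2

/-- **Krull–Akizuki**, local form: `D` a Noetherian local domain of dimension one, `K` its fraction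
field, `L/K` finite.  There is a discrete valuation ring `V` of `L` dominating `D` with residue
field finite over the residue field of `D`. -/
theorem exists_dvr_finite (D : Type u) [CommRing D] [IsDomain D] [IsLocalRing D]
    [IsNoetherianRing D] [Ring.KrullDimLE 1 D] (hD : maximalIdeal D ≠ ⊥)
    (K : Type u) [Field K] [Algebra D K] [IsFractionRing D K]
    (L : Type u) [Field L] [Algebra K L] [FiniteDimensional K L] [Algebra D L]
    [IsScalarTower D K L] :
    ∃ (V : Type u) (_ : CommRing V) (_ : IsDomain V) (_ : IsDiscreteValuationRing V)
      (_ : Algebra V L) (_ : IsFractionRing V L) (_ : Algebra D V) (_ : IsScalarTower D V L),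
      IsLocalHom (algebraMap D V) ∧ Module.Finite D (ResidueField V) := by
  have hinj : Function.Injective (algebraMap D L) := by
    rw [IsScalarTower.algebraMap_eq D K L]
    exact (algebraMap K L).injective.comp (IsFractionRing.injective D K)
  obtain ⟨V, h₀, hloc⟩ := IsLocalRing.exists_factor_valuationRing (algebraMap D L)
  let φ : D →+* V := (algebraMap D L).codRestrict V.toSubring h₀
  let : Algebra D V := φ.toAlgebra
  have : IsScalarTower D V L := .of_algebraMap_eq fun _ => rfl
  have : IsNoetherianRing V := KrullAkizuki.isNoetherianRing D K L
    (A := V) Subtype.val_injective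
  have hφ : IsLocalHom φ := hloc
  obtain ⟨c, hc, hc0⟩ := Submodule.exists_mem_ne_zero_of_ne_bot hD
  have hφc : φ c ∈ maximalIdeal V := by
    rw [mem_maximalIdeal, mem_nonunits_iff] at hc ⊢
    exact fun h => hc (isUnit_of_map_unit φ c h)
  have hφ0 : φ c ≠ 0 := by
    intro h
    exact hc0 (hinj ((congrArg Subtype.val h).trans (map_zero _).symm))
  have hfield : ¬ IsField V := by
    intro hf
    rw [IsLocalRing.isField_iff_maximalIdeal_eq.1 hf] at hφc
    exact hφ0 (Ideal.mem_bot.1 hφc)
  have hval : ValuationRing V := inferInstance
  have hdvr : IsDiscreteValuationRing V :=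
    ((IsDiscreteValuationRing.TFAE V hfield).out 0 1).2 hval
  refine ⟨V, inferInstance, inferInstance, hdvr, inferInstance, inferInstance, inferInstance,
    inferInstance, hφ, ?_⟩
  have h1 : IsFiniteLength D (V ⧸ Ideal.span {algebraMap D V c}) :=
    KrullAkizuki.isFiniteLength_quotient (K := K) (L := L) Subtype.val_injective c hc0
  have h2 : IsNoetherian D (V ⧸ Ideal.span {algebraMap D V c}) :=
    (isFiniteLength_iff_isNoetherian_isArtinian.1 h1).1
  have hle : Ideal.span {algebraMap D V c} ≤ maximalIdeal V := by
    rw [Ideal.span_singleton_le_iff_mem]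
    exact hφc
  let π : (V ⧸ Ideal.span {algebraMap D V c}) →ₐ[D] (V ⧸ maximalIdeal V) :=
    Ideal.Quotient.factorₐ D hle
  have hπ : Function.Surjective π := Ideal.Quotient.factor_surjective hle
  exact Module.Finite.of_surjective π.toLinearMap hπ

end Groth.Agent.Etbc.H206.KADvr
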